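import Mathlib
import Cfsg.Agent.H29.Fi23T
import Cfsg.Agent.H29.Cert
import Cfsg.Agent.H29.Fi23Z.D0

set_option autoImplicit false
set_option maxRecDepth 100000
set_option Elab.async false
set_option linter.all false

namespace H29.Fi23Z

noncomputable def ly : List Net := [x10, x12]
noncomputable def nx : ℕ → Net := nth Net.nil (Fi23T.nl ++ dbl ly)
def ivx : List ℕ := [0, 1, 2, 3, 4, 5, 6, 7, 8, 9, 11, 10, 13, 12]
def defs : List (List ℕ) := [[1, 2, 3, 4, 5, 6, 7, 1, 2, 3, 4, 5, 6, 7, 1, 2, 3, 4, 5, 6, 7, 1, 2, 3, 4, 5, 6, 7, 1, 2, 3, 4, 5, 6, 7, 1, 2, 3, 4, 5, 6, 7, 1, 2, 3, 4, 5, 6, 7, 1, 2, 3, 4, 5, 6, 7, 1, 2, 3, 4, 5, 6, 7],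
 [9, 6, 5, 4, 3, 2, 7, 3, 4, 5, 6, 9]]
theorem hext : chkExt 10 defs Fi23T.ivl ivx = true := by decide +kernel
theorem hn : NetsOK 31671 nx := netsOK_ext Fi23T.hn (by decide +kernel)
theorem hiv : IvOK (sg nx) (ivOf ivx) := ivOK_ext Fi23T.hiv hext rfl rfl

end H29.Fi23Z
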