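import Mathlib
import Cfsg.Agent.H29.Fi23Z.B

set_option autoImplicit false
set_option maxRecDepth 100000
set_option Elab.async false
set_option linter.all false

namespace H29.Fi23Z

theorem hdef : ∀ r ∈ defRels defs 10, ev (sg nx) r = 1 :=
  rels_of_chk (k := 15) hn (by decide) hiv (allN_true.1 (by decide +kernel))

theorem prim : Prim nx 31671 [0, 1, 2, 3, 4, 5, 6, 7, 8] [9, 12] := prim_of_chk (r1 := 12) (r2 := 12) hn (by decide +kernel)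

theorem z0 : chkRelP 31671 15 nx (ivOf ivx) [[10, 10], [0, 10, 0, 10], [1, 10, 1, 10], [2, 10, 2, 10], [3, 10, 3, 10], [4, 10, 4, 10], [5, 10, 5, 10], [6, 10, 6, 10], [7, 10, 7, 10], [8, 10, 8, 10], [10, 9, 10, 9, 10, 9, 10, 9, 10, 9, 10, 9], [10, 13, 10, 12, 10, 13, 10, 12]] 0 = true := by decide +kernel

theorem z1 : chkRelP 31671 15 nx (ivOf ivx) [[10, 10], [0, 10, 0, 10], [1, 10, 1, 10], [2, 10, 2, 10], [3, 10, 3, 10], [4, 10, 4, 10], [5, 10, 5, 10], [6, 10, 6, 10], [7, 10, 7, 10], [8, 10, 8, 10], [10, 9, 10, 9, 10, 9, 10, 9, 10, 9, 10, 9], [10, 13, 10, 12, 10, 13, 10, 12]] 1 = true := by decide +kernel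

theorem z2 : chkRelP 31671 15 nx (ivOf ivx) [[10, 10], [0, 10, 0, 10], [1, 10, 1, 10], [2, 10, 2, 10], [3, 10, 3, 10], [4, 10, 4, 10], [5, 10, 5, 10], [6, 10, 6, 10], [7, 10, 7, 10], [8, 10, 8, 10], [10, 9, 10, 9, 10, 9, 10, 9, 10, 9, 10, 9], [10, 13, 10, 12, 10, 13, 10, 12]] 2 = true := by decide +kernel

theorem z3 : chkRelP 31671 15 nx (ivOf ivx) [[10, 10], [0, 10, 0, 10], [1, 10, 1, 10], [2, 10, 2, 10], [3, 10, 3, 10], [4, 10, 4, 10], [5, 10, 5, 10], [6, 10, 6, 10], [7, 10, 7, 10], [8, 10, 8, 10], [10, 9, 10, 9, 10, 9, 10, 9, 10, 9, 10, 9], [10, 13, 10, 12, 10, 13, 10, 12]] 3 = true := by decide +kernel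

theorem z4 : chkRelP 31671 15 nx (ivOf ivx) [[10, 10], [0, 10, 0, 10], [1, 10, 1, 10], [2, 10, 2, 10], [3, 10, 3, 10], [4, 10, 4, 10], [5, 10, 5, 10], [6, 10, 6, 10], [7, 10, 7, 10], [8, 10, 8, 10], [10, 9, 10, 9, 10, 9, 10, 9, 10, 9, 10, 9], [10, 13, 10, 12, 10, 13, 10, 12]] 4 = true := by decide +kernel

theorem z5 : chkRelP 31671 15 nx (ivOf ivx) [[10, 10], [0, 10, 0, 10], [1, 10, 1, 10], [2, 10, 2, 10], [3, 10, 3, 10], [4, 10, 4, 10], [5, 10, 5, 10], [6, 10, 6, 10], [7, 10, 7, 10], [8, 10, 8, 10], [10, 9, 10, 9, 10, 9, 10, 9, 10, 9, 10, 9], [10, 13, 10, 12, 10, 13, 10, 12]] 5 = true := by decide +kernel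

theorem z6 : chkRelP 31671 15 nx (ivOf ivx) [[10, 10], [0, 10, 0, 10], [1, 10, 1, 10], [2, 10, 2, 10], [3, 10, 3, 10], [4, 10, 4, 10], [5, 10, 5, 10], [6, 10, 6, 10], [7, 10, 7, 10], [8, 10, 8, 10], [10, 9, 10, 9, 10, 9, 10, 9, 10, 9, 10, 9], [10, 13, 10, 12, 10, 13, 10, 12]] 6 = true := by decide +kernel

theorem z7 : chkRelP 31671 15 nx (ivOf ivx) [[10, 10], [0, 10, 0, 10], [1, 10, 1, 10], [2, 10, 2, 10], [3, 10, 3, 10], [4, 10, 4, 10], [5, 10, 5, 10], [6, 10, 6, 10], [7, 10, 7, 10], [8, 10, 8, 10], [10, 9, 10, 9, 10, 9, 10, 9, 10, 9, 10, 9], [10, 13, 10, 12, 10, 13, 10, 12]] 7 = true := by decide +kernel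

theorem z8 : chkRelP 31671 15 nx (ivOf ivx) [[10, 10], [0, 10, 0, 10], [1, 10, 1, 10], [2, 10, 2, 10], [3, 10, 3, 10], [4, 10, 4, 10], [5, 10, 5, 10], [6, 10, 6, 10], [7, 10, 7, 10], [8, 10, 8, 10], [10, 9, 10, 9, 10, 9, 10, 9, 10, 9, 10, 9], [10, 13, 10, 12, 10, 13, 10, 12]] 8 = true := by decide +kernel

theorem z9 : chkRelP 31671 15 nx (ivOf ivx) [[10, 10], [0, 10, 0, 10], [1, 10, 1, 10], [2, 10, 2, 10], [3, 10, 3, 10], [4, 10, 4, 10], [5, 10, 5, 10], [6, 10, 6, 10], [7, 10, 7, 10], [8, 10, 8, 10], [10, 9, 10, 9, 10, 9, 10, 9, 10, 9, 10, 9], [10, 13, 10, 12, 10, 13, 10, 12]] 9 = true := by decide +kernel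

theorem z10 : chkRelP 31671 15 nx (ivOf ivx) [[10, 10], [0, 10, 0, 10], [1, 10, 1, 10], [2, 10, 2, 10], [3, 10, 3, 10], [4, 10, 4, 10], [5, 10, 5, 10], [6, 10, 6, 10], [7, 10, 7, 10], [8, 10, 8, 10], [10, 9, 10, 9, 10, 9, 10, 9, 10, 9, 10, 9], [10, 13, 10, 12, 10, 13, 10, 12]] 10 = true := by decide +kernel

theorem z11 : chkRelP 31671 15 nx (ivOf ivx) [[10, 10], [0, 10, 0, 10], [1, 10, 1, 10], [2, 10, 2, 10], [3, 10, 3, 10], [4, 10, 4, 10], [5, 10, 5, 10], [6, 10, 6, 10], [7, 10, 7, 10], [8, 10, 8, 10], [10, 9, 10, 9, 10, 9, 10, 9, 10, 9, 10, 9], [10, 13, 10, 12, 10, 13, 10, 12]] 11 = true := by decide +kernel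

theorem z12 : chkRelP 31671 15 nx (ivOf ivx) [[10, 10], [0, 10, 0, 10], [1, 10, 1, 10], [2, 10, 2, 10], [3, 10, 3, 10], [4, 10, 4, 10], [5, 10, 5, 10], [6, 10, 6, 10], [7, 10, 7, 10], [8, 10, 8, 10], [10, 9, 10, 9, 10, 9, 10, 9, 10, 9, 10, 9], [10, 13, 10, 12, 10, 13, 10, 12]] 12 = true := by decide +kernel

theorem z13 : chkRelP 31671 15 nx (ivOf ivx) [[10, 10], [0, 10, 0, 10], [1, 10, 1, 10], [2, 10, 2, 10], [3, 10, 3, 10], [4, 10, 4, 10], [5, 10, 5, 10], [6, 10, 6, 10], [7, 10, 7, 10], [8, 10, 8, 10], [10, 9, 10, 9, 10, 9, 10, 9, 10, 9, 10, 9], [10, 13, 10, 12, 10, 13, 10, 12]] 13 = true := by decide +kernel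

theorem z14 : chkRelP 31671 15 nx (ivOf ivx) [[10, 10], [0, 10, 0, 10], [1, 10, 1, 10], [2, 10, 2, 10], [3, 10, 3, 10], [4, 10, 4, 10], [5, 10, 5, 10], [6, 10, 6, 10], [7, 10, 7, 10], [8, 10, 8, 10], [10, 9, 10, 9, 10, 9, 10, 9, 10, 9, 10, 9], [10, 13, 10, 12, 10, 13, 10, 12]] 14 = true := by decide +kernel

end H29.Fi23Z
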